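import Groth.Agent.Lib.Goren.CMHeight27
import Groth.Agent.Lib.VarDim.Alg
import Mathlib

/-! # Heights in Cohen–Macaulay algebras of finite type over a field -/

set_option autoImplicit false
universe u

namespace Groth.Agent.CMAff1

variable {S : Type u} [CommRing S] [LocCoh.IsCohenMacaulayRing S]

/-- In a Cohen–Macaulay ring, `ht M = e + ht p` where `e` is at most the dimension of any zero locus
through `p`. -/
theorem exists_height_eq_add {p M : Ideal S} [p.IsPrime] [M.IsPrime] (h : p ≤ M) :
    ∃ e : ℕ∞, M.height = e + p.height ∧ (∀ J : Ideal S, J ≤ p → (e : WithBot ℕ∞) ≤ ringKrullDim (S ⧸ J)) ∧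
      ∀ (q : PrimeSpectrum (S ⧸ p)), q.asIdeal.comap (Ideal.Quotient.mk p) = M → e ≤ Order.height q := by
  let L := Localization.AtPrime M
  haveI : LocCoh.IsCohenMacaulayLocalRing L :=
    LocCoh.IsCohenMacaulayRing.isCohenMacaulayLocalRing_localization M
  have hd : Disjoint (M.primeCompl : Set S) (p : Set S) := Set.disjoint_left.mpr fun a ha hap => ha (h hap)
  let p' : PrimeSpectrum L :=
    ⟨p.map (algebraMap S L), IsLocalization.isPrime_of_isPrime_disjoint M.primeCompl L _ ‹_› hd⟩
  have hc : p'.asIdeal.comap (algebraMap S L) = p :=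
    IsLocalization.under_map_of_isPrime_disjoint M.primeCompl L ‹_› hd
  have hdim := GorenLib.ringKrullDim_eq_quotient_add_height p'.asIdeal p'.2.ne_top
  have hq : ringKrullDim (L ⧸ p'.asIdeal) = Order.coheight p' := by
    rw [ringKrullDim_quotient]
    exact (Order.krullDim_eq_of_orderIso (OrderIso.setCongr _ (Set.Ici p') rfl)).trans
      (Order.coheight_eq_krullDim_Ici (x := p')).symm
  rw [IsLocalization.AtPrime.ringKrullDim_eq_height M L, hq,
    show p'.asIdeal.height = p.height from IsLocalization.height_map_of_disjoint M.primeCompl p hd] at hdim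
  have hmono : StrictMono (PrimeSpectrum.comap (algebraMap S L)) :=
    Monotone.strictMono_of_injective (fun _ _ h => Ideal.comap_mono h)
      (PrimeSpectrum.localization_comap_injective L M.primeCompl)
  refine ⟨Order.coheight p', by exact_mod_cast hdim, fun J hJ => ?_, fun q hq => ?_⟩
  · rw [ringKrullDim_quotient, Order.coheight_eq_krullDim_Ici (x := p')]
    exact Order.krullDim_le_of_strictMono
      (fun x => ⟨PrimeSpectrum.comap (algebraMap S L) x.1, fun a ha => Ideal.comap_mono x.2 (hc.symm ▸ hJ ha)⟩)
      fun a b hab => hmono hab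
  · rw [← WithBot.coe_le_coe, Order.coheight_eq_krullDim_Ici (x := p'), Order.height_eq_krullDim_Iic (x := q)]
    have hmem : ∀ x : Set.Ici p', p ≤ (PrimeSpectrum.comap (algebraMap S L) x.1).asIdeal := fun x =>
      hc ▸ Ideal.comap_mono x.2
    let φ : Set.Ici p' → PrimeSpectrum (S ⧸ p) := fun x =>
      ⟨(PrimeSpectrum.comap (algebraMap S L) x.1).asIdeal.map (Ideal.Quotient.mk p),
        Ideal.map_isPrime_of_surjective Ideal.Quotient.mk_surjective (by rw [Ideal.mk_ker]; exact hmem x)⟩
    have hφc : ∀ x, (φ x).asIdeal.comap (Ideal.Quotient.mk p) = (PrimeSpectrum.comap (algebraMap S L) x.1).asIdeal :=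
      fun x => by
        rw [Ideal.comap_map_of_surjective _ Ideal.Quotient.mk_surjective, ← RingHom.ker_eq_comap_bot,
          Ideal.mk_ker, sup_eq_left.2 (hmem x)]
    have hφq : ∀ x, φ x ∈ Set.Iic q := fun x => by
      show (φ x).asIdeal ≤ q.asIdeal
      rw [← Ideal.comap_le_comap_iff_of_surjective _ Ideal.Quotient.mk_surjective, hφc x, hq]
      calc (PrimeSpectrum.comap (algebraMap S L) x.1).asIdeal
          ≤ (IsLocalRing.maximalIdeal L).comap (algebraMap S L) :=
            Ideal.comap_mono (IsLocalRing.le_maximalIdeal x.1.2.ne_top)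
        _ = M := IsLocalization.AtPrime.under_maximalIdeal L M
    refine Order.krullDim_le_of_strictMono (fun x => (⟨φ x, hφq x⟩ : Set.Iic q)) fun a b hab => ?_
    refine lt_of_le_not_ge (Ideal.map_mono (Ideal.comap_mono hab.le)) fun hle => (hmono hab).not_ge ?_
    have := Ideal.comap_mono (f := Ideal.Quotient.mk p) hle
    rw [hφc a, hφc b] at this
    exact this

variable (k : Type u) [Field k] [Algebra k S] [Algebra.FiniteType k S]

include k in
/-- The height of a maximal ideal is the dimension of any component through it. -/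
theorem height_eq_dim_quotient (M : Ideal S) [hM : M.IsMaximal] {P : Ideal S} (hP : P ∈ minimalPrimes S) (hPM : P ≤ M) :
    (M.height : WithBot ℕ∞) = ringKrullDim (S ⧸ P) := by
  haveI : P.IsPrime := hP.1.1
  obtain ⟨e, he, h1, h2⟩ := exists_height_eq_add hPM
  rw [Ideal.height_eq_zero_iff.2 hP, add_zero] at he
  refine le_antisymm (he ▸ h1 P le_rfl) ?_
  let π := Ideal.Quotient.mk P
  haveI hmax : (M.map π).IsMaximal :=
    Ideal.IsMaximal.map_of_surjective_of_ker_le Ideal.Quotient.mk_surjective (by rwa [Ideal.mk_ker])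
  let q : PrimeSpectrum (S ⧸ P) := ⟨M.map π, inferInstance⟩
  have hq1 := VarDim.height_add_coheight k (S ⧸ P) q
  have hq2 : Order.coheight q = 0 := by
    rw [Order.coheight_eq_zero]
    intro q' hq'
    exact (hmax.eq_of_le q'.2.ne_top hq').ge
  rw [hq2, add_zero] at hq1
  have hc : PrimeSpectrum.comap π q = ⟨M, inferInstance⟩ := PrimeSpectrum.ext (by
    show (M.map π).comap π = M
    rw [Ideal.comap_map_of_surjective _ Ideal.Quotient.mk_surjective, ← RingHom.ker_eq_comap_bot,
      Ideal.mk_ker, sup_eq_left.2 hPM])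
  have h3 : Order.height q ≤ M.height := by
    rw [show M.height = Order.height (⟨M, inferInstance⟩ : PrimeSpectrum S) from
      PrimeSpectrum.height_eq_orderHeight ⟨M, inferInstance⟩, ← hc]
    exact Order.height_le_height_apply_of_strictMono _
      (Monotone.strictMono_of_injective (f := PrimeSpectrum.comap π) (fun _ _ h => Ideal.comap_mono h)
        (PrimeSpectrum.comap_injective_of_surjective π Ideal.Quotient.mk_surjective)) q
  rw [← hq1]
  exact_mod_cast h3

end Groth.Agent.CMAff1
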